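import Groth.Agent.Lib.QCoh.Closure
import Groth.Agent.Lib.QCoh.Pushforward
import Groth.Agent.Lib.QCoh.Pullback
import Groth.Agent.Lib.Modules.AffineSections
import Groth.Agent.Lib.BettiExact.Local
import Groth.Agent.Lib.DR.FlatAcyclic
import Groth.Agent.Lib.DerivedOX.Calculus
import Mathlib.CategoryTheory.Limits.Types.Pullbacks

/-!
# Flat quasi-coherent quotient presentations

On a quasi-compact scheme with affine diagonal every quasi-coherent module is a quotient of a flat
quasi-coherent one: one repairs flatness on one more affine open at a time.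
-/

set_option autoImplicit false
set_option linter.style.haveILetI false
universe u

open CategoryTheory CategoryTheory.Limits AlgebraicGeometry Opposite TopologicalSpace

namespace Groth.Agent.Lib.FlatQuot36.Basic

open Groth.Agent.Lib Groth.Agent.Lib.QCoh.Localizing

noncomputable section

variable {X Z : Scheme.{u}}

/-- A morphism of modules on sections, as a linear map. -/
def appₗ {M N : X.Modules} (φ : M ⟶ N) (V : X.Opens) : Γ(M, V) →ₗ[Γ(X, V)] Γ(N, V) where
  toFun := φ.app V
  map_add' := map_add _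
  map_smul' r x := Scheme.Modules.Hom.app_smul φ r x

/-- A module flat at all points of an affine open has flat sections there. -/
theorem flat_sections_on {M : X.Modules} [M.IsQuasicoherent] {V : X.Opens} (hV : IsAffineOpen V)
    (hM : ∀ x ∈ V, FlatMod.IsFlatAt M x) : Module.Flat Γ(X, V) Γ(M, V) := by
  let pt : PrimeSpectrum Γ(X, V) → V := fun p => ⟨hV.fromSpec p, hV.opensRange_fromSpec.le ⟨p, rfl⟩⟩
  have hpt : ∀ p, hV.primeIdealOf (pt p) = p := fun p =>
    hV.fromSpec.isOpenEmbedding.injective (hV.fromSpec_primeIdealOf (pt p))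
  refine Module.flat_of_localized_maximal (R := Γ(X, V)) (M := Γ(M, V)) (fun P hP => ?_)
  let y := pt ⟨P, hP.isPrime⟩
  letI := StalkLoc.Basic.moduleSections M y.2
  letI := TopCat.Presheaf.algebra_section_stalk X.presheaf y
  haveI := StalkLoc.Basic.isScalarTower_sections M y.2
  haveI := hV.isLocalization_stalk y
  haveI := StalkLoc.Basic.isLocalizedModule_germ (M := M) hV y.2
  haveI : Module.Flat (X.presheaf.stalk y.1) (M.presheaf.stalk y.1) := hM y.1 y.2
  haveI : Module.Flat Γ(X, V) (X.presheaf.stalk y.1) :=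
    IsLocalization.flat _ (hV.primeIdealOf y).asIdeal.primeCompl
  haveI : Module.Flat Γ(X, V) (M.presheaf.stalk y.1) := Module.Flat.trans _ (X.presheaf.stalk y.1) _
  have he : (hV.primeIdealOf y).asIdeal = P := by rw [hpt]
  suffices h : Module.Flat Γ(X, V) (LocalizedModule (hV.primeIdealOf y).asIdeal.primeCompl Γ(M, V)) by
    convert h using 4 <;> exact he.symm
  exact Module.Flat.of_linearEquiv
    (IsLocalizedModule.iso (hV.primeIdealOf y).asIdeal.primeCompl (StalkLoc.Basic.germₗ M y.2))

/-- Flat sections on an affine open make a quasi-coherent module flat at its points. -/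
theorem flatAt_of_sections {M : X.Modules} [M.IsQuasicoherent] {V : X.Opens} (hV : IsAffineOpen V)
    (h : Module.Flat Γ(X, V) Γ(M, V)) {x : X} (hx : x ∈ V) : FlatMod.IsFlatAt M x := by
  letI := StalkLoc.Basic.moduleSections M hx
  letI := TopCat.Presheaf.algebra_section_stalk X.presheaf (⟨x, hx⟩ : V)
  haveI := StalkLoc.Basic.isScalarTower_sections M hx
  haveI := hV.isLocalization_stalk ⟨x, hx⟩
  haveI := StalkLoc.Basic.isLocalizedModule_germ (M := M) hV hx
  exact Module.Flat.isBaseChange Γ(X, V) (X.presheaf.stalk x) Γ(M, V) (M.presheaf.stalk x)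
    (IsLocalizedModule.isBaseChange (hV.primeIdealOf ⟨x, hx⟩).asIdeal.primeCompl _
      (StalkLoc.Basic.germₗ M hx))

lemma bijective_map_of_eq (M : X.Modules) {A B : X.Opens} (h : A ≤ B) (e : A = B) :
    Function.Bijective (M.presheaf.map (homOfLE h).op) := by
  subst e
  rw [Subsingleton.elim (homOfLE h) (𝟙 A), op_id, M.presheaf.map_id]
  exact Function.bijective_id

/-- Sections of a direct image along an affine open immersion are flat over affine opens. -/
theorem flat_push (j : Z ⟶ X) [IsOpenImmersion j] [IsAffineHom j] {G : Z.Modules}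
    [G.IsQuasicoherent] (hG : FlatMod.IsFlat G) {V : X.Opens} (hV : IsAffineOpen V) :
    Module.Flat Γ(X, V) Γ((Scheme.Modules.pushforward j).obj G, V) := by
  let A : Z.Opens := j ⁻¹ᵁ V
  have hA : IsAffineOpen A := hV.preimage j
  letI : Algebra Γ(X, V) Γ(Z, A) := (j.app V).hom.toAlgebra
  haveI : Module.Flat Γ(X, V) Γ(Z, A) := by
    have h := Scheme.Hom.flat_appLE j hV hA le_rfl
    rw [Scheme.Hom.appLE_eq_app] at h
    exact h
  letI : Module Γ(X, V) Γ(G, A) := Module.compHom _ (j.app V).hom
  haveI : IsScalarTower Γ(X, V) Γ(Z, A) Γ(G, A) := IsScalarTower.of_algebraMap_smul fun _ _ => rfl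
  haveI : Module.Flat Γ(Z, A) Γ(G, A) := Modules.AffineSections.flat_sections hG hA
  have h : Module.Flat Γ(X, V) Γ(G, A) := Module.Flat.trans _ Γ(Z, A) _
  exact h

/-- The unit is bijective on sections over opens inside the range. -/
lemma bijective_unit (j : Z ⟶ X) [IsOpenImmersion j] (M : X.Modules) {V : X.Opens}
    (hV : V ≤ j.opensRange) :
    Function.Bijective (((Scheme.Modules.restrictAdjunction j).unit.app M).app V) := by
  rw [Scheme.Modules.restrictAdjunction_unit_app_app]
  exact bijective_map_of_eq M _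
    ((j.image_preimage_eq_opensRange_inf V).trans (inf_eq_right.2 hV))

/-- Where the module is flat, so are the sections of its restriction pushed forward. -/
theorem flat_push_restrict (j : Z ⟶ X) [IsOpenImmersion j] (M : X.Modules) [M.IsQuasicoherent]
    {V : X.Opens} (hV : IsAffineOpen V) (hV' : IsAffineOpen (V ⊓ j.opensRange))
    (hM : ∀ x ∈ V, FlatMod.IsFlatAt M x) :
    Module.Flat Γ(X, V)
      Γ((Scheme.Modules.pushforward j).obj ((Scheme.Modules.restrictFunctor j).obj M), V) := by
  set N := (Scheme.Modules.pushforward j).obj ((Scheme.Modules.restrictFunctor j).obj M) with hN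
  let V' : X.Opens := V ⊓ j.opensRange
  let η : M ⟶ N := (Scheme.Modules.restrictAdjunction j).unit.app M
  haveI : Module.Flat Γ(X, V') Γ(N, V') := by
    haveI : Module.Flat Γ(X, V') Γ(M, V') :=
      flat_sections_on hV' fun x hx => hM x hx.1
    exact Module.Flat.of_linearEquiv
      (LinearEquiv.ofBijective (appₗ η V') (bijective_unit j M inf_le_right)).symm
  let r : Γ(X, V) →+* Γ(X, V') := (X.presheaf.map (homOfLE (inf_le_left : V' ≤ V)).op).hom
  letI : Algebra Γ(X, V) Γ(X, V') := r.toAlgebra
  haveI : Module.Flat Γ(X, V) Γ(X, V') := by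
    have h := Scheme.Hom.flat_appLE (𝟙 X) hV hV' inf_le_left
    simp only [Scheme.Hom.appLE, Scheme.Hom.id_app, Category.id_comp] at h
    exact h
  letI : Module Γ(X, V) Γ(N, V') := Module.compHom _ r
  haveI : IsScalarTower Γ(X, V) Γ(X, V') Γ(N, V') := IsScalarTower.of_algebraMap_smul fun _ _ => rfl
  haveI : Module.Flat Γ(X, V) Γ(N, V') := Module.Flat.trans _ Γ(X, V') _
  let l : Γ(N, V) →ₗ[Γ(X, V)] Γ(N, V') :=
    { toFun := N.presheaf.map (homOfLE (inf_le_left : V' ≤ V)).op
      map_add' := map_add _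
      map_smul' := fun a x => res_smul (M := N) (inf_le_left : V' ≤ V) a x }
  refine Module.Flat.of_linearEquiv (LinearEquiv.ofBijective l ?_)
  refine bijective_map_of_eq ((Scheme.Modules.restrictFunctor j).obj M)
    (j.preimage_mono inf_le_left) ?_
  rw [Scheme.Hom.preimage_inf, Scheme.Hom.preimage_opensRange, inf_top_eq]

/-- Every module is a quotient of a flat one. -/
theorem exists_flat_cover_mod {R : CommRingCat.{u}} (N : ModuleCat.{u} R) :
    ∃ (L : ModuleCat.{u} R) (f : L ⟶ N), Module.Flat R L ∧ Epi f :=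
  ⟨ModuleCat.of R (N →₀ R), ModuleCat.ofHom (Finsupp.linearCombination R id), inferInstance,
    (ModuleCat.epi_iff_surjective _).2 fun n => ⟨Finsupp.single n 1, by simp⟩⟩

/-- On an affine scheme every quasi-coherent module is a quotient of a flat quasi-coherent one. -/
theorem exists_flat_cover_spec {R : CommRingCat.{u}} (G : (Spec R).Modules) [G.IsQuasicoherent] :
    ∃ (F : (Spec R).Modules) (p : F ⟶ G), F.IsQuasicoherent ∧ FlatMod.IsFlat F ∧ Epi p := by
  obtain ⟨L, f, hL, hf⟩ := exists_flat_cover_mod (moduleSpecΓFunctor.obj G)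
  haveI := hL
  haveI := hf
  haveI : IsIso G.fromTildeΓ := Scheme.Modules.isIso_fromTildeΓ_of_isQuasicoherent G
  haveI : Epi ((tilde.functor R).map f) := (tilde.functor R).map_epi f
  exact ⟨(tilde.functor R).obj L, (tilde.functor R).map f ≫ G.fromTildeΓ,
    inferInstanceAs (tilde L).IsQuasicoherent, BettiExact.Local.isFlat_tilde _, @epi_comp _ _ _ _ _ _ ‹Epi _› _ (IsIso.epi_of_iso G.fromTildeΓ)⟩

/-- One more affine open of flatness. -/
theorem step (hd : ∀ V W : X.Opens, IsAffineOpen V → IsAffineOpen W → IsAffineOpen (V ⊓ W))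
    (M : X.Modules) [M.IsQuasicoherent] (W : X.Opens) (hW : ∀ x ∈ W, FlatMod.IsFlatAt M x)
    {R : CommRingCat.{u}} (j : Spec R ⟶ X) [IsOpenImmersion j] :
    ∃ (Q : X.Modules) (π : Q ⟶ M), Q.IsQuasicoherent ∧ Epi π ∧
      ∀ x ∈ W ⊔ j.opensRange, FlatMod.IsFlatAt Q x := by
  have hr : IsAffineOpen j.opensRange := isAffineOpen_opensRange j
  haveI : IsAffineHom j := ⟨fun V hV => by
    rw [← j.isAffineOpen_iff_of_isOpenImmersion, j.image_preimage_eq_opensRange_inf]
    exact hd _ _ hr hV⟩
  let G := (Scheme.Modules.restrictFunctor j).obj M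
  haveI : G.IsQuasicoherent := inferInstanceAs ((Scheme.Modules.restrictFunctor j).obj M).IsQuasicoherent
  obtain ⟨F, p, hFq, hFf, hp⟩ := exists_flat_cover_spec G
  haveI := hFq
  haveI := hp
  let P := (Scheme.Modules.pushforward j).obj F
  let N := (Scheme.Modules.pushforward j).obj G
  haveI : P.IsQuasicoherent := QCoh.Pushforward.isQCoh_pushforward j
  haveI : N.IsQuasicoherent := QCoh.Pushforward.isQCoh_pushforward j
  let η : M ⟶ N := (Scheme.Modules.restrictAdjunction j).unit.app M
  let q : P ⟶ N := (Scheme.Modules.pushforward j).map p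
  have hqV : ∀ {V : X.Opens}, IsAffineOpen V → Function.Surjective (q.app V) := fun hV =>
    QCoh.Closure.sections_surjective_of_epi p (hV.preimage j)
  haveI : Epi q := by
    refine (Modules.Stalk.epi_iff_stalk_surjective q).2 fun x v => ?_
    obtain ⟨U, hxU, s, rfl⟩ := TopCat.Presheaf.germ_exist N.presheaf v
    obtain ⟨_, ⟨V, hV, rfl⟩, hxV, hVU⟩ :=
      X.isBasis_affineOpens.exists_subset_of_mem_open hxU U.2
    obtain ⟨t, ht⟩ := hqV hV (N.presheaf.map (homOfLE (hVU : V ≤ U)).op s)
    refine ⟨P.presheaf.germ V x hxV t, ?_⟩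
    erw [TopCat.Presheaf.stalkFunctor_map_germ_apply]
    change N.presheaf.germ V x hxV (q.app V t) = _
    rw [ht]
    exact TopCat.Presheaf.germ_res_apply N.presheaf (homOfLE (hVU : V ≤ U)) x hxV s
  let Q : X.Modules := pullback η q
  haveI : (M ⊞ P).IsQuasicoherent := QCoh.Closure.isQCoh_biprod
  haveI hQ : Q.IsQuasicoherent := by
    have hk := QCoh.Closure.isQCoh_kernel (biprod.desc η (-q))
    exact (SheafOfModules.isQuasicoherent.{u} X.ringCatSheaf).prop_of_iso
      ((Abelian.PullbackToBiproductIsKernel.isLimitPullbackToBiproduct η q).conePointUniqueUpToIso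
        (limit.isLimit _)).symm hk
  haveI : Epi (pullback.fst η q : Q ⟶ M) := inferInstance
  refine ⟨Q, pullback.fst η q, hQ, inferInstance, fun x hx => ?_⟩
  have hsq : ∀ V : X.Opens, IsPullback ((QCoh.Closure.sectionsFunctor V ⋙ forget _).map (pullback.fst η q))
      ((QCoh.Closure.sectionsFunctor V ⋙ forget _).map (pullback.snd η q))
      ((QCoh.Closure.sectionsFunctor V ⋙ forget _).map η)
      ((QCoh.Closure.sectionsFunctor V ⋙ forget _).map q) := fun V =>
    (IsPullback.of_hasPullback η q).map _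
  rcases hx with hx | hx
  · obtain ⟨_, ⟨V, hV, rfl⟩, hxV, hVW⟩ := X.isBasis_affineOpens.exists_subset_of_mem_open hx W.2
    refine flatAt_of_sections hV ?_ hxV
    have hV' : IsAffineOpen (V ⊓ j.opensRange) := hd _ _ hV hr
    haveI : Module.Flat Γ(X, V) Γ(M, V) := flat_sections_on hV fun y hy => hW y (hVW hy)
    haveI : Module.Flat Γ(X, V) Γ(P, V) := flat_push j hFf hV
    haveI : Module.Flat Γ(X, V) Γ(N, V) := flat_push_restrict j M hV hV' fun y hy => hW y (hVW hy)
    haveI := DR.FlatAcyclic.flat_ker (appₗ q V) (hqV hV)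
    let a := appₗ (pullback.fst η q) V
    have ha : Function.Surjective a := QCoh.Closure.sections_surjective_of_epi _ hV
    haveI : Module.Flat Γ(X, V) (LinearMap.ker a) := by
      let b : LinearMap.ker a →ₗ[Γ(X, V)] LinearMap.ker (appₗ q V) :=
        ((appₗ (pullback.snd η q) V).comp (LinearMap.ker a).subtype).codRestrict _ fun z => by
          have hw := congrArg (fun g : Q ⟶ N => g.app V z.1) (pullback.condition (f := η) (g := q))
          change q.app V ((pullback.snd η q).app V z.1) = 0
          refine Eq.trans hw.symm ?_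
          change η.app V (a z.1) = 0
          rw [z.2, map_zero]
      refine Module.Flat.of_linearEquiv (LinearEquiv.ofBijective b ⟨fun z z' h => ?_, fun w => ?_⟩)
      · exact Subtype.ext (Types.ext_of_isPullback (hsq V) (z.2.trans z'.2.symm)
          (congrArg Subtype.val h))
      · obtain ⟨z, hz1, hz2⟩ := Types.exists_of_isPullback (hsq V) (0 : Γ(M, V)) w.1
          ((map_zero (η.app V).hom).trans w.2.symm)
        exact ⟨⟨z, hz1⟩, Subtype.ext hz2⟩
    exact DerivedOX.Calculus.flat_of_extension (LinearMap.ker a).subtype a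
      (Submodule.subtype_injective _) ha (LinearMap.exact_subtype_ker_map a)
  · obtain ⟨_, ⟨V, hV, rfl⟩, hxV, hVr⟩ :=
      X.isBasis_affineOpens.exists_subset_of_mem_open hx j.opensRange.2
    refine flatAt_of_sections hV ?_ hxV
    haveI : Module.Flat Γ(X, V) Γ(P, V) := flat_push j hFf hV
    have hη := bijective_unit j M (V := V) hVr
    refine Module.Flat.of_linearEquiv
      (LinearEquiv.ofBijective (appₗ (pullback.snd η q) V) ⟨fun z z' h => ?_, fun w => ?_⟩)
    · refine Types.ext_of_isPullback (hsq V) ?_ h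
      have h1 := congrArg (fun g : Q ⟶ N => g.app V z) (pullback.condition (f := η) (g := q))
      have h2 := congrArg (fun g : Q ⟶ N => g.app V z') (pullback.condition (f := η) (g := q))
      exact hη.1 (h1.trans ((congrArg (q.app V) h).trans h2.symm))
    · obtain ⟨m, hm⟩ := hη.2 (q.app V w)
      obtain ⟨z, -, hz2⟩ := Types.exists_of_isPullback (hsq V) m w hm
      exact ⟨z, hz2⟩

/-- Every quasi-coherent module on a quasi-compact scheme with affine diagonal is a quotient of a
flat quasi-coherent module. -/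
theorem exists_flat_quotient [CompactSpace X]
    (hd : ∀ V W : X.Opens, IsAffineOpen V → IsAffineOpen W → IsAffineOpen (V ⊓ W))
    (M : X.Modules) [M.IsQuasicoherent] :
    ∃ (F : X.Modules) (π : F ⟶ M), F.IsQuasicoherent ∧ FlatMod.IsFlat F ∧ Epi π := by
  classical
  obtain ⟨t, ht, hcov⟩ := isCompact_and_isOpen_iff_finite_and_eq_biUnion_affineOpens.mp
    (⟨isCompact_univ, isOpen_univ⟩ : IsCompact (Set.univ : Set X) ∧ IsOpen (Set.univ : Set X))
  have key : ∀ s : Finset X.affineOpens, ∃ (F : X.Modules) (π : F ⟶ M), F.IsQuasicoherent ∧ Epi π ∧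
      ∀ V ∈ s, ∀ x ∈ V.1, FlatMod.IsFlatAt F x := by
    intro s
    induction s using Finset.induction with
    | empty => exact ⟨M, 𝟙 M, inferInstance, inferInstance, by simp⟩
    | @insert V s hi ih =>
      obtain ⟨F, π, hF, hπ, hflat⟩ := ih
      haveI := hF
      haveI := hπ
      let W : X.Opens := ⨆ k ∈ s, k.1
      have hW : ∀ x ∈ W, FlatMod.IsFlatAt F x := fun x hx => by
        obtain ⟨k, hk⟩ := Opens.mem_iSup.1 hx
        obtain ⟨hk, hxk⟩ := Opens.mem_iSup.1 hk
        exact hflat k hk x hxk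
      obtain ⟨Q, ψ, hQ, hψ, hQf⟩ := step hd F W hW (show IsAffineOpen V.1 from V.2).fromSpec
      haveI := hψ
      refine ⟨Q, ψ ≫ π, hQ, epi_comp _ _, fun k hk x hx => hQf x ?_⟩
      rcases Finset.mem_insert.1 hk with rfl | hk
      · exact Or.inr ((show IsAffineOpen k.1 from k.2).opensRange_fromSpec.ge hx)
      · exact Or.inl (Opens.mem_iSup.2 ⟨k, Opens.mem_iSup.2 ⟨hk, hx⟩⟩)
  obtain ⟨F, π, hF, hπ, hflat⟩ := key ht.toFinset
  refine ⟨F, π, hF, fun x => ?_, hπ⟩
  obtain ⟨V, hV, hxV⟩ := Set.mem_iUnion₂.mp (hcov ▸ Set.mem_univ x)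
  exact hflat V (ht.mem_toFinset.2 hV) x hxV

end

end Groth.Agent.Lib.FlatQuot36.Basic
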